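import Cfsg.Agent.SuzukiCover.Classes
import Cfsg.Agent.Suzuki.LieModel

/-!
# The square of a class of elements of order `> 2` covers the Suzuki group
-/

set_option autoImplicit false
set_option linter.unusedSectionVars false
set_option linter.unusedSimpArgs false

namespace CfsgLib.SuzukiCover

open CfsgLib.Suzuki

variable {F : Type*} [Field F] [Fintype F] {m : ℕ}

theorem θ_surjective (hS : SzField F m) : Function.Surjective (θ m : F → F) :=
  Finite.surjective_of_injective (θ_injective hS)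

theorem θ_pow_half (hS : SzField F m) (x : F) : θ m x ^ (2 ^ m) = x := by
  rw [θ, ← pow_mul, ← pow_add, show m + 1 + m = 2 * m + 1 by omega, ← hS.card_eq, FiniteField.pow_card]

theorem of_conj {G : Type*} [Group G] {x y₁ y₂ g : G} (h₁ : IsConj x y₁) (h₂ : IsConj x y₂)
    (hg : IsConj g (y₁ * y₂)) : ∃ u v, g = (u * x * u⁻¹) * (v * x * v⁻¹) := by
  obtain ⟨u, rfl⟩ := isConj_iff.1 h₁
  obtain ⟨v, rfl⟩ := isConj_iff.1 h₂
  obtain ⟨k, hk⟩ := isConj_iff.1 hg
  refine ⟨k⁻¹ * u, k⁻¹ * v, ?_⟩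
  calc g = k⁻¹ * (k * g * k⁻¹) * k := by group
    _ = _ := by rw [hk]; group

theorem T_inv (hS : SzField F m) (g : Cfsg.Sz F m) : T g⁻¹ = T g := by
  by_cases h : T g = 0
  · obtain ⟨a, b, hc⟩ := isUnip_of_T_eq hS h
    obtain ⟨k, hk⟩ := isConj_iff.1 hc
    rw [h, ← T_conj k, ← conj_inv, hk, uniEl_inv, T_uni]
  · obtain ⟨b, -, hc⟩ := exists_canon hS (not_isUnip_of_T_ne hS h)
    obtain ⟨k, hk⟩ := isConj_iff.1 hc
    rw [← T_conj k g⁻¹, ← conj_inv, ← T_conj k g, hk, canon, mul_inv_rev, mul_inv_rev, mul_inv_rev,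
      weylEl_inv, uniEl_inv, uniEl_inv, θ_zero, zero_mul, add_zero, add_zero, T_mul_comm]
    simp only [mul_assoc]

/-- Unipotent elements are conjugate to `U(0,1)` or to some `U(1,e)`. -/
theorem unip_cases (hS : SzField F m) {g : Cfsg.Sz F m} (hg : g ≠ 1) (h : T g = 0) :
    IsConj g (uniEl hS 0 1) ∨ ∃ e, IsConj g (uniEl hS 1 e) := by
  obtain ⟨a, b, hc⟩ := isUnip_of_T_eq hS h
  rcases eq_or_ne a 0 with rfl | ha
  · refine Or.inl (hc.trans (isConj_involution hS ?_))
    rintro rfl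
    obtain ⟨k, hk⟩ := isConj_iff.1 hc
    rw [uniEl_zero, mul_inv_eq_one, mul_eq_left] at hk
    exact hg hk
  · have := hS.charP
    exact Or.inr ⟨b / (a * θ m a), hc.trans (isConj_unipotent hS ha (by
      rw [CharTwo.add_self_eq_zero]; exact zero_mem _))⟩

theorem exists_parity (hS : SzField F m) {κ : F} (hκ : κ ∉ evenSub hS) (e : F) :
    ∃ η, θ m η + η + 1 = κ ∧ e + η ∈ evenSub hS := by
  have := hS.charP
  obtain ⟨η, hη⟩ := exists_of_notMem hS hκ
  by_cases h : e + η ∈ evenSub hS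
  · exact ⟨η, hη, h⟩
  · refine ⟨η + 1, ?_, by rw [← add_assoc]; exact (add_mem_iff hS _ _).2 (iff_of_false h (one_notMem hS))⟩
    rw [θ_add hS, θ_one]
    linear_combination hη + hS.two_eq_zero

/-- The semisimple case. -/
theorem cover_semisimple (hS : SzField F m) {x g : Cfsg.Sz F m} (hx : T x ≠ 0) (hg : g ≠ 1) :
    ∃ u v, g = (u * x * u⁻¹) * (v * x * v⁻¹) := by
  have := hS.charP
  have h2 := hS.two_eq_zero
  obtain ⟨B, hB⟩ := θ_surjective hS (T x)
  have hB0 : B ≠ 0 := fun h => hx (by rw [← hB, h, θ_zero])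
  have hconj : ∀ y : Cfsg.Sz F m, T y = T x → IsConj x y := fun y hy => isConj_of_T hS hx hy.symm
  by_cases hτ : T g = 0
  · rcases unip_cases hS hg hτ with hc | ⟨e, hc⟩
    · -- an involution
      obtain ⟨d, hd0, hd⟩ := exists_notMem_quad hS hx
      have hθd : θ m d ≠ 0 := fun h => hd0 (θ_eq_zero.1 h)
      obtain ⟨b, hb⟩ := exists_of_notMem hS (κ := T x * d * θ m d + θ m d) (fun hin => hd
        ((mem_iff_of_add_mem hS (y := T x * d * θ m d + d) (by
          refine ⟨d, ?_⟩
          show θ m d + d = _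
          linear_combination -(T x * d * θ m d) * h2)).1 hin))
      set μ := Units.mk0 (θ m d)⁻¹ (inv_ne_zero hθd) with hμ
      have hν : (μ : F) ^ (2 ^ m) = d⁻¹ := by rw [hμ, Units.val_mk0, inv_pow, θ_pow_half hS]
      have hT : ∀ b', θ m b' + b' + 1 = T x * d * θ m d + θ m d →
          T (weylEl hS * torSz hS μ * uniEl hS 1 b') = T x := by
        intro b' hb'
        rw [T_weyl_tor_uni, hν, hμ, Units.val_mk0, θ_one,
          show szF m 1 b' = T x * d * θ m d + θ m d by rw [szF, θ_one]; linear_combination hb']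
        field_simp
        linear_combination h2
      refine of_conj (y₁ := (weylEl hS * torSz hS μ * uniEl hS 1 b)⁻¹)
        (y₂ := weylEl hS * torSz hS μ * uniEl hS 1 (b + 1)) (hconj _ ?_) (hconj _ ?_) ?_
      · rw [T_inv hS, hT b hb]
      · exact hT _ (by rw [θ_add hS, θ_one]; linear_combination hb + h2)
      · rwa [show (weylEl hS * torSz hS μ * uniEl hS 1 b)⁻¹ * (weylEl hS * torSz hS μ * uniEl hS 1 (b + 1)) =
          uniEl hS 0 1 by
            rw [inv_mul_eq_iff_eq_mul, mul_assoc _ (uniEl hS 1 b), uniEl_mul, mul_zero, add_zero, add_zero]]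
    · -- an element of order four
      obtain ⟨d, hd0, hd⟩ := exists_notMem_quad hS hB0
      have hθd : θ m d ≠ 0 := fun h => hd0 (θ_eq_zero.1 h)
      obtain ⟨η, hη, hpar⟩ := exists_parity hS (κ := B * d * θ m d + d ^ 2) (fun hin => hd
        ((mem_iff_of_add_mem hS (y := B * d * θ m d + d) (by
          have h := (add_mem_iff hS (d ^ 2) d).2 (sq_mem_iff hS d)
          convert h using 1
          linear_combination (B * d * θ m d) * h2)).1 hin)) e
      set c := d⁻¹
      set f := c * θ m c * η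
      have hθc : θ m c = (θ m d)⁻¹ := θ_inv d
      refine of_conj (y₁ := (weylEl hS * torSz hS 1 * uniEl hS 0 B)⁻¹)
        (y₂ := weylEl hS * torSz hS 1 * uniEl hS c (B + f)) (hconj _ ?_) (hconj _ ?_) ?_
      · rw [T_inv hS, T_weyl_tor_uni, ← hB]
        simp [szF]
      · rw [T_weyl_tor_uni, ← hB, Units.val_one, one_pow, one_mul, one_mul, szF, θ_add hS,
          show θ m f = θ m c * c ^ 2 * θ m η by simp only [f, θ_mul, θ_θ hS]]
        have key : θ m c + c * B + c ^ 2 * θ m c * (θ m η + η + 1) = 0 := by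
          rw [hη, hθc]
          simp only [c]
          field_simp
          linear_combination (d + θ m d * B) * h2
        linear_combination key
      · refine hc.trans ((isConj_unipotent hS (a := c) (b := f) (inv_ne_zero hd0) (e := e) ?_).symm.trans ?_)
        · rwa [show f / (c * θ m c) = η by
            rw [mul_div_cancel_left₀]
            exact mul_ne_zero (inv_ne_zero hd0) (fun h => inv_ne_zero hd0 (θ_eq_zero.1 h))]
        · rw [show (weylEl hS * torSz hS 1 * uniEl hS 0 B)⁻¹ * (weylEl hS * torSz hS 1 * uniEl hS c (B + f)) =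
            uniEl hS c f by
              rw [inv_mul_eq_iff_eq_mul, mul_assoc _ (uniEl hS 0 B), uniEl_mul, θ_zero, zero_mul, add_zero, zero_add]]
  · -- a semisimple element
    obtain ⟨r, hr⟩ := (pow_two_pow_bijective hS 1).2 (T g)
    simp only [pow_one] at hr
    obtain ⟨e, he⟩ := θ_surjective hS r
    set I := weylEl hS * uniEl hS 0 1 * weylEl hS
    have hinv : (uniEl hS 0 e)⁻¹ = uniEl hS 0 e := by rw [uniEl_inv, θ_zero, zero_mul, add_zero]
    refine of_conj (y₁ := canon hS B) (y₂ := uniEl hS 0 e * (uniEl hS 0 B * I) * (uniEl hS 0 e)⁻¹)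
      (hconj _ (by rw [T_canon, hB])) (hconj _ ?_) (isConj_of_T hS hτ ?_)
    · rw [T_conj, T_mul_comm]
      show T (canon hS B) = T x
      rw [T_canon, hB]
    · have hprod : uniEl hS 0 B * uniEl hS 0 e * uniEl hS 0 B = uniEl hS 0 e := by
        rw [uniEl_mul, uniEl_mul, uniEl_eq_iff]
        refine ⟨by ring, ?_⟩
        simp only [θ_zero, zero_mul, add_zero]
        linear_combination B * h2
      rw [hinv, show canon hS B * (uniEl hS 0 e * (uniEl hS 0 B * I) * uniEl hS 0 e) =
        I * (uniEl hS 0 B * uniEl hS 0 e * uniEl hS 0 B) * (I * uniEl hS 0 e) by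
          simp only [canon, I]; group, hprod]
      show T g = T (canon hS e * canon hS e)
      rw [T_sq hS, T_canon, he, hr]

/-- The case of an element of order four. -/
theorem cover_four (hS : SzField F m) {x g : Cfsg.Sz F m} {e₀ : F} (hx : IsConj x (uniEl hS 1 e₀))
    (hg : g ≠ 1) : ∃ u v, g = (u * x * u⁻¹) * (v * x * v⁻¹) := by
  have := hS.charP
  have h2 := hS.two_eq_zero
  have hcl : ∀ a b : F, a ≠ 0 → e₀ + b / (a * θ m a) ∈ evenSub hS → IsConj x (uniEl hS a b) :=
    fun a b ha h => hx.trans (isConj_unipotent hS ha h).symm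
  by_cases hτ : T g = 0
  · rcases unip_cases hS hg hτ with hc | ⟨ε, hc⟩
    · refine of_conj (y₁ := uniEl hS 1 e₀) (y₂ := uniEl hS 1 e₀) hx hx (hc.trans ?_)
      rw [uniEl_sq, θ_one, one_mul]
    · obtain ⟨a, ha0, haθ⟩ := exists_θ_ne hS
      have ha1 : a ≠ 1 := fun h => haθ (by rw [h, θ_one])
      have hc0 : a + 1 ≠ 0 := fun h => ha1 (CharTwo.add_eq_zero.1 h)
      have hθa : θ m a ≠ 0 := fun h => ha0 (θ_eq_zero.1 h)
      obtain ⟨w₀, hw₀, hw₀'⟩ := exists_shift hS (r := a * θ m a) (mul_ne_zero ha0 hθa)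
        (fun h => ha1 (self_mul_θ_injective hS (by simpa using h)))
      set d := (a + 1) * θ m (a + 1) * e₀
      obtain ⟨w, hw, hfin⟩ : ∃ w ∈ evenSub hS,
          ε + (a * θ m a * (e₀ + w) + d + θ m a * (a + 1)) ∈ evenSub hS := by
        by_cases h : ε + (a * θ m a * e₀ + d + θ m a * (a + 1)) ∈ evenSub hS
        · exact ⟨0, zero_mem _, by rwa [add_zero]⟩
        · refine ⟨w₀, hw₀, ?_⟩
          have := (add_mem_iff hS _ _).2 (iff_of_false h hw₀')
          convert this using 1
          ring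
      refine of_conj (y₁ := uniEl hS a (a * θ m a * (e₀ + w))) (y₂ := uniEl hS (a + 1) d)
        (hcl _ _ ha0 ?_) (hcl _ _ hc0 ?_) (hc.trans ?_)
      · rwa [mul_div_cancel_left₀ _ (mul_ne_zero ha0 hθa), ← add_assoc, CharTwo.add_self_eq_zero, zero_add]
      · rw [mul_div_cancel_left₀ _ (mul_ne_zero hc0 (fun h => hc0 (θ_eq_zero.1 h))), CharTwo.add_self_eq_zero]
        exact zero_mem _
      · rw [uniEl_mul, ← add_assoc a, CharTwo.add_self_eq_zero, zero_add]
        exact (isConj_unipotent hS one_ne_zero (by rw [θ_one, mul_one, div_one]; exact hfin)).symm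
  · obtain ⟨r, hr⟩ := (pow_two_pow_bijective hS 1).2 (T g)
    simp only [pow_one] at hr
    obtain ⟨A, hA⟩ := θ_surjective hS r
    have hA0 : A ≠ 0 := fun h => hτ (by rw [← hr, ← hA, h, θ_zero, zero_pow two_ne_zero])
    obtain ⟨d, hd0, hd⟩ := exists_notMem_quad hS hA0
    obtain ⟨η, hη, hpar⟩ := exists_parity hS (κ := r * θ m d * d ^ 2 + d ^ 2) (fun hin => hd
      ((θ_mem_iff hS _).1 ((mem_iff_of_add_mem hS (by
        refine ⟨θ m d, ?_⟩
        show θ m (θ m d) + θ m d = _
        rw [θ_θ hS, θ_add hS, θ_mul, θ_mul, θ_θ hS, hA]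
        linear_combination -(r * θ m d * d ^ 2) * h2)).1 hin))) e₀
    set a := d⁻¹
    have ha0 : a ≠ 0 := inv_ne_zero hd0
    have hθd : θ m d ≠ 0 := fun h => hd0 (θ_eq_zero.1 h)
    set b := a * θ m a * η
    have hb : b / (a * θ m a) = η :=
      mul_div_cancel_left₀ _ (mul_ne_zero ha0 (fun h => ha0 (θ_eq_zero.1 h)))
    have hF : szF m a b = r + θ m a := by
      have : szF m a b = a ^ 2 * θ m a * (θ m η + η + 1) := by
        simp only [szF, b, θ_mul, θ_θ hS]; ring
      rw [this, hη, show θ m a = (θ m d)⁻¹ from θ_inv d]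
      simp only [a]
      field_simp
    have hy := hcl a b ha0 (by rw [hb]; exact hpar)
    refine of_conj (y₁ := weylEl hS * uniEl hS a b * (weylEl hS)⁻¹) (y₂ := uniEl hS a b)
      (hy.trans (isConj_iff.2 ⟨weylEl hS, rfl⟩)) hy (isConj_of_T hS hτ ?_)
    rw [weylEl_inv, T_lower_upper, hF, ← hr]
    linear_combination -(b * a * θ m a + θ m a ^ 2 + r * θ m a) * h2

theorem cover (hS : SzField F m) {x g : Cfsg.Sz F m} (hx : 2 < orderOf x) (hg : g ≠ 1) :
    ∃ u v, g = (u * x * u⁻¹) * (v * x * v⁻¹) := by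
  by_cases h : T x = 0
  · have hx1 : x ≠ 1 := fun e => by simp [e] at hx
    rcases unip_cases hS hx1 h with hc | ⟨e, hc⟩
    · exfalso
      obtain ⟨k, hk⟩ := isConj_iff.1 hc
      have h2 : orderOf (k * x * k⁻¹) = orderOf x := MulEquiv.orderOf_eq (MulAut.conj k) x
      have h3 : orderOf (uniEl hS (0 : F) 1) ≤ 2 := Nat.le_of_dvd two_pos
        (orderOf_dvd_of_pow_eq_one (by rw [pow_two, uniEl_sq, θ_zero, zero_mul, uniEl_zero]))
      rw [hk] at h2
      omega
    · exact cover_four hS hc hg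
  · exact cover_semisimple hS h hg

end CfsgLib.SuzukiCover
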