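import Cfsg.Agent.Suzuki.Field

/-!
# The index two subgroup `{θ x + x}` of the field of a Suzuki group
-/

set_option autoImplicit false
set_option linter.unusedSectionVars false

namespace CfsgLib.SuzukiCover

open CfsgLib.Suzuki

variable {F : Type*} [Field F] [Fintype F] {m : ℕ}

/-- `x ↦ θ x + x`, as an additive map. -/
def tAdd (hS : SzField F m) : F →+ F where
  toFun x := θ m x + x
  map_zero' := by rw [θ_zero, add_zero]
  map_add' x y := by rw [θ_add hS]; abel

/-- The kernel of the absolute trace: the elements `θ x + x`. -/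
def evenSub (hS : SzField F m) : AddSubgroup F := (tAdd hS).range

theorem mem_evenSub {hS : SzField F m} {x : F} : x ∈ evenSub hS ↔ ∃ y, θ m y + y = x := Iff.rfl

theorem one_notMem (hS : SzField F m) : (1 : F) ∉ evenSub hS := by
  rintro ⟨y, hy⟩
  have := hS.charP
  exact θ_add_self_ne_one hS y (by rw [show θ m y + y = 1 from hy, CharTwo.add_self_eq_zero])

theorem index_evenSub (hS : SzField F m) : (evenSub hS).index = 2 := by
  classical
  have := hS.charP
  have hker : Nat.card (tAdd hS).ker = 2 := by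
    rw [Nat.card_eq_two_iff]
    refine ⟨⟨0, (tAdd hS).map_zero⟩, ⟨1, ?_⟩, fun h => zero_ne_one (congrArg Subtype.val h), ?_⟩
    · show θ m (1 : F) + 1 = 0
      rw [θ_one, CharTwo.add_self_eq_zero]
    · rw [Set.eq_univ_iff_forall]
      rintro ⟨x, hx⟩
      rcases θ_fixed hS (CharTwo.add_eq_zero.1 (hx : θ m x + x = 0)) with rfl | rfl <;> simp
  have h1 := (tAdd hS).ker.card_mul_index
  rw [AddSubgroup.index_ker, hker] at h1
  have h2 := (evenSub hS).card_mul_index
  rw [← h1, mul_comm 2] at h2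
  exact Nat.eq_of_mul_eq_mul_left Nat.card_pos h2

theorem add_mem_iff (hS : SzField F m) (x y : F) :
    x + y ∈ evenSub hS ↔ (x ∈ evenSub hS ↔ y ∈ evenSub hS) :=
  AddSubgroup.add_mem_iff_of_index_two (index_evenSub hS)

theorem mem_iff_of_add_mem (hS : SzField F m) {x y : F} (h : x + y ∈ evenSub hS) :
    x ∈ evenSub hS ↔ y ∈ evenSub hS := (add_mem_iff hS x y).1 h

theorem θ_mem_iff (hS : SzField F m) (x : F) : θ m x ∈ evenSub hS ↔ x ∈ evenSub hS :=
  mem_iff_of_add_mem hS ⟨x, rfl⟩

theorem sq_mem_iff (hS : SzField F m) (x : F) : x ^ 2 ∈ evenSub hS ↔ x ∈ evenSub hS := by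
  rw [← θ_θ hS, θ_mem_iff, θ_mem_iff]

/-- `1 + θ x + x` runs over the complement. -/
theorem exists_of_notMem (hS : SzField F m) {κ : F} (h : κ ∉ evenSub hS) :
    ∃ x, θ m x + x + 1 = κ := by
  have := hS.charP
  obtain ⟨x, hx⟩ : κ + 1 ∈ evenSub hS :=
    (add_mem_iff hS κ 1).2 (iff_of_false h (one_notMem hS))
  exact ⟨x, by rw [show θ m x + x = κ + 1 from hx, add_assoc, CharTwo.add_self_eq_zero, add_zero]⟩

/-- The pairing `(x, y) ↦ (x y mod evenSub)` is non-degenerate. -/
theorem eq_zero_of_forall_mem (hS : SzField F m) {a : F} (h : ∀ x, a * x ∈ evenSub hS) : a = 0 := by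
  by_contra ha
  exact one_notMem hS (by simpa [ha] using h a⁻¹)

/-- The key quadratic equation. -/
theorem exists_notMem_quad (hS : SzField F m) {A : F} (hA : A ≠ 0) :
    ∃ d : F, d ≠ 0 ∧ A * d * θ m d + d ∉ evenSub hS := by
  by_contra hcon
  push Not at hcon
  have := hS.charP
  have h2 := hS.two_eq_zero
  have hall : ∀ d : F, A * d * θ m d + d ∈ evenSub hS := fun d => by
    rcases eq_or_ne d 0 with rfl | hd
    · simp [zero_mem]
    · exact hcon d hd
  have hpol : ∀ x y : F, A * y * θ m x + A * x * θ m y ∈ evenSub hS := fun x y => by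
    have h := add_mem (add_mem (hall (x + y)) (hall x)) (hall y)
    rw [θ_add hS] at h
    convert h using 1
    linear_combination -(A * x * θ m x + A * y * θ m y + x + y) * h2
  have hkey : ∀ x y : F, θ m y * (θ m A + A ^ 2 * θ m y) * x ^ 2 ∈ evenSub hS := fun x y => by
    have e1 : θ m (A * y * θ m x) + A * y * θ m x ∈ evenSub hS := ⟨_, rfl⟩
    have e2 : (A * x * θ m y) ^ 2 + A * x * θ m y ∈ evenSub hS :=
      (add_mem_iff hS _ _).2 (sq_mem_iff hS _)
    have h := add_mem (add_mem e1 e2) (hpol x y)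
    rw [θ_mul, θ_mul, θ_θ hS] at h
    convert h using 1
    linear_combination -(A * y * θ m x + A * x * θ m y) * h2
  have hzero : ∀ y : F, y ≠ 0 → A ^ 2 * θ m y = θ m A := fun y hy => by
    have h := eq_zero_of_forall_mem hS (a := θ m y * (θ m A + A ^ 2 * θ m y)) fun x => by
      obtain ⟨r, hr⟩ := (pow_two_pow_bijective hS 1).2 x
      simp only [pow_one] at hr
      rw [← hr]
      exact hkey r y
    rcases mul_eq_zero.1 h with h | h
    · exact absurd (θ_eq_zero.1 h) hy
    · exact (CharTwo.add_eq_zero.1 h).symm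
  obtain ⟨y, hy0, hy⟩ := exists_θ_ne hS
  have e := (hzero y hy0).trans (hzero 1 one_ne_zero).symm
  have e' : θ m y = θ m 1 := mul_left_cancel₀ (pow_ne_zero 2 hA) e
  exact hy (by rw [θ_injective hS e', θ_one])

theorem exists_shift (hS : SzField F m) {r : F} (hr0 : r ≠ 0) (hr : r ≠ 1) : ∃ w ∈ evenSub hS, r * w ∉ evenSub hS := by
  by_contra hcon
  push Not at hcon
  have := hS.charP
  refine hr (CharTwo.add_eq_zero.1 (eq_zero_of_forall_mem hS fun x => ?_))
  rw [add_mul, one_mul, add_mem_iff hS]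
  refine ⟨fun hrx => ?_, hcon x⟩
  by_contra hx
  refine hr0 (eq_zero_of_forall_mem hS fun z => ?_)
  by_cases hz : z ∈ evenSub hS
  · exact hcon z hz
  · have h := hcon (z + x) ((add_mem_iff hS _ _).2 (iff_of_false hz hx))
    rw [mul_add, add_mem_iff hS] at h
    exact h.2 hrx

end CfsgLib.SuzukiCover
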