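import Cfsg.Agent.Suzuki.Tori
import Cfsg.Agent.SuzukiLocal.Basic
import Cfsg.Agent.SuzukiCover.Parity

/-!
# The trace determines the classes of non-unipotent elements of the Suzuki group
-/

set_option autoImplicit false
set_option linter.unusedSectionVars false
set_option linter.unusedSimpArgs false

namespace CfsgLib.SuzukiCover

open CfsgLib.Suzuki CfsgLib.SuzukiLocal

local notation "SL4" F:max => Matrix.SpecialLinearGroup (Fin 4) F

variable {F : Type*} [Field F] [Fintype F] {m : ℕ}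

/-- The trace of an element of the Suzuki group. -/
def T (g : Cfsg.Sz F m) : F := Matrix.trace ((g : SL4 F) : Matrix (Fin 4) (Fin 4) F)

theorem T_mul_comm (g h : Cfsg.Sz F m) : T (g * h) = T (h * g) := by
  simp only [T, Subgroup.coe_mul, Matrix.SpecialLinearGroup.coe_mul]
  exact Matrix.trace_mul_comm _ _

theorem T_conj (k g : Cfsg.Sz F m) : T (k * g * k⁻¹) = T g := by
  rw [T_mul_comm, ← mul_assoc, inv_mul_cancel, one_mul]

theorem T_congr {g h : Cfsg.Sz F m} (hc : IsConj g h) : T g = T h := by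
  obtain ⟨k, rfl⟩ := isConj_iff.1 hc
  rw [T_conj]

theorem T_sq (hS : SzField F m) (g : Cfsg.Sz F m) : T (g * g) = T g ^ 2 := by
  simp only [T, Subgroup.coe_mul, Matrix.SpecialLinearGroup.coe_mul, Matrix.trace, Matrix.diag,
    Fin.sum_univ_four, Matrix.mul_apply]
  ring_nf
  simp [hS.two_eq_zero]

theorem T_uni (hS : SzField F m) (a b : F) : T (uniEl hS a b) = 0 := by
  simp only [T, uniEl_val, uni_val, Matrix.trace, Matrix.diag, Fin.sum_univ_four]
  simp [uniMat]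
  linear_combination 2 * hS.two_eq_zero

theorem T_one (hS : SzField F m) : T (1 : Cfsg.Sz F m) = 0 := by
  rw [← uniEl_zero hS, T_uni]

theorem weylEl_mul_self (hS : SzField F m) : weylEl hS * weylEl hS = (1 : Cfsg.Sz F m) :=
  Subtype.ext weyl_mul_weyl

theorem weylEl_inv (hS : SzField F m) : (weylEl hS)⁻¹ = (weylEl hS : Cfsg.Sz F m) :=
  inv_eq_of_mul_eq_one_right (weylEl_mul_self hS)

theorem weylEl_conj_torSz (hS : SzField F m) (μ : Fˣ) :
    weylEl hS * torSz hS μ * weylEl hS = torSz hS μ⁻¹ := Subtype.ext (weyl_conj_tor μ)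

theorem weylEl_smul_infinity (hS : SzField F m) :
    ((weylEl hS : Cfsg.Sz F m) : SL4 F) • Cfsg.suzukiPointInfinity F = Cfsg.suzukiPointZero F :=
  weyl_smul_infinity

/-- The trace of a product of a lower and an upper unipotent. -/
theorem T_lower_upper (hS : SzField F m) (c e a b : F) :
    T (weylEl hS * uniEl hS c e * weylEl hS * uniEl hS a b) =
      b * c * θ m c + e * a * θ m a + θ m c * θ m a + szF m a b * szF m c e := by
  simp only [T, Subgroup.coe_mul, Matrix.SpecialLinearGroup.coe_mul, uniEl_val, uni_val]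
  rw [show (((weylEl hS : Cfsg.Sz F m) : SL4 F) : Matrix (Fin 4) (Fin 4) F) = weylMat from rfl]
  simp [Matrix.trace, Matrix.diag, Matrix.mul_apply, Fin.sum_univ_succ, weylMat, uniMat]
  ring_nf
  simp [hS.two_eq_zero, hS.four_eq_zero]

/-- The trace of an element of the big cell. -/
theorem T_weyl_tor_uni (hS : SzField F m) (μ : Fˣ) (a b : F) :
    T (weylEl hS * torSz hS μ * uniEl hS a b) =
      (μ : F) ^ (2 ^ m) * (θ m a + (μ : F) * szF m a b) := by
  simp only [T, Subgroup.coe_mul, Matrix.SpecialLinearGroup.coe_mul, uniEl_val, uni_val, torSz_val, tor_val]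
  rw [show (((weylEl hS : Cfsg.Sz F m) : SL4 F) : Matrix (Fin 4) (Fin 4) F) = weylMat from rfl]
  simp [Matrix.trace, Matrix.diag, Matrix.mul_apply, Fin.sum_univ_succ, weylMat, uniMat, torMat]
  ring

/-- Normal form `W U(0,1) W U(0,b)`. -/
def canon (hS : SzField F m) (b : F) : Cfsg.Sz F m :=
  weylEl hS * uniEl hS 0 1 * weylEl hS * uniEl hS 0 b

theorem T_canon (hS : SzField F m) (b : F) : T (canon hS b) = θ m b := by
  rw [canon, T_lower_upper]
  simp [szF]

theorem fix_center (hS : SzField F m) {s : Cfsg.Sz F m} (h : s * s = 1)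
    (hf : (s : SL4 F) • Cfsg.suzukiPointInfinity F = Cfsg.suzukiPointInfinity F) :
    ∃ c, s = uniEl hS 0 c := by
  obtain ⟨a, b, μ, rfl⟩ := pointStab_eq hS hf
  have h' : uniEl hS a b * uniEl hS ((μ : F) * a) ((μ : F) * θ m (μ : F) * b) * torSz hS (μ * μ) = 1 := by
    rw [← torSz_conj_uniEl, map_mul]
    calc _ = uniEl hS a b * torSz hS μ * (uniEl hS a b * torSz hS μ) := by group
      _ = 1 := h
  rw [uniEl_mul] at h'
  have h1 : uni m (a + μ * a) (b + μ * θ m (μ : F) * b + θ m a * (μ * a)) * tor m (μ * μ) =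
      uni m (0 : F) 0 * tor m 1 := by
    rw [uni_zero, map_one, one_mul]
    exact congrArg Subtype.val h'
  obtain ⟨-, -, hμ2⟩ := uni_mul_tor_injective hS h1
  have := hS.charP
  have hμ : μ = 1 := Units.ext (CharTwo.sq_injective (by
    simpa [pow_two] using congrArg Units.val hμ2))
  subst hμ
  rw [map_one, mul_one] at h ⊢
  exact mem_uniCenter_of_sq hS (uniEl_mem hS a b) h

theorem exists_conj_center (hS : SzField F m) {s : Cfsg.Sz F m} (h : s * s = 1) :
    ∃ (k : Cfsg.Sz F m) (c : F), k * s * k⁻¹ = uniEl hS 0 c := by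
  have : Fact (Nat.Prime 2) := ⟨Nat.prime_two⟩
  have hp : IsPGroup 2 (Subgroup.zpowers s) := by
    rintro ⟨_, i, rfl⟩
    refine ⟨1, Subtype.ext ?_⟩
    show (s ^ i) ^ (2 ^ 1) = 1
    rw [pow_one, ← zpow_natCast, ← zpow_mul, mul_comm, zpow_mul, zpow_natCast, pow_two, h, one_zpow]
  obtain ⟨P, hP⟩ := hp.exists_le_sylow
  obtain ⟨k, hk⟩ := exists_conj_sylow hS P
  have hmem := hP (Subgroup.mem_zpowers s)
  rw [hk] at hmem
  obtain ⟨u, hu, hus⟩ := hmem
  rw [MulEquiv.coe_toMonoidHom, MulAut.conj_apply] at hus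
  have hu2 : u * u = 1 := by
    calc u * u = k⁻¹ * ((k * u * k⁻¹) * (k * u * k⁻¹)) * k := by group
      _ = 1 := by rw [hus, h]; group
  obtain ⟨c, rfl⟩ := mem_uniCenter_of_sq hS hu hu2
  exact ⟨k⁻¹, c, by rw [← hus]; group⟩

/-- Conjugate into the upper unipotent group. -/
def IsUnip (hS : SzField F m) (g : Cfsg.Sz F m) : Prop :=
  ∃ a b : F, IsConj g (uniEl hS a b)

theorem two_dvd_normalizer (hS : SzField F m) {z : Cfsg.Sz F m} (hz : IsAnisElt z) :
    ∃ n : Cfsg.Sz F m, n * n = 1 ∧ n ≠ 1 ∧ ∀ u ∈ cT z, n * u * n⁻¹ ∈ cT z := by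
  have h5 := hz.five_le hS
  obtain ⟨r, hr, hrd⟩ := Nat.exists_prime_and_dvd (show Nat.card (cT z) ≠ 1 by omega)
  have hq : r ∣ Fintype.card F ^ 2 + 1 := hz.prime_dvd hS hr hrd
  obtain ⟨z', hz', hc, hN⟩ : ∃ z' : Cfsg.Sz F m, IsAnisElt z' ∧ r ∣ Nat.card (cT z') ∧
      2 ∣ Nat.card (Subgroup.normalizer (cT z' : Set (Cfsg.Sz F m))) := by
    have hle : 2 ^ (m + 1) ≤ Fintype.card F := by
      rw [hS.card_eq]; exact Nat.pow_le_pow_right (by norm_num) (by omega)
    have hsq : 2 ^ (m + 1) * 2 ^ (m + 1) = 2 * Fintype.card F := by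
      rw [hS.card_eq, ← pow_add, ← pow_succ']; congr 1; omega
    have hprod : (Fintype.card F + 2 ^ (m + 1) + 1) * (Fintype.card F - 2 ^ (m + 1) + 1) =
        Fintype.card F ^ 2 + 1 := by
      zify [hle]
      have : ((2 ^ (m + 1) : ℕ) : ℤ) * (2 ^ (m + 1) : ℕ) = 2 * (Fintype.card F : ℤ) := by exact_mod_cast hsq
      push_cast at this
      linear_combination -this
    rw [← hprod] at hq
    rcases hr.dvd_mul.1 hq with hd | hd
    · obtain ⟨z', h1, h2, h3⟩ := exists_torus hS (k := Fintype.card F + 2 ^ (m + 1) + 1) (Or.inl rfl)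
      exact ⟨z', h1, h2 ▸ hd, h3 ▸ Dvd.dvd.mul_right (by norm_num) _⟩
    · obtain ⟨z', h1, h2, h3⟩ := exists_torus hS (k := Fintype.card F - 2 ^ (m + 1) + 1) (Or.inr rfl)
      exact ⟨z', h1, h2 ▸ hd, h3 ▸ Dvd.dvd.mul_right (by norm_num) _⟩
  obtain ⟨k, hk⟩ := hz.exists_conj hS hz' hr hrd hc
  have : Fact (Nat.Prime 2) := ⟨Nat.prime_two⟩
  obtain ⟨⟨n, hnN⟩, hn⟩ := exists_prime_orderOf_dvd_card' 2 hN
  rw [Subgroup.orderOf_mk, orderOf_eq_prime_iff] at hn
  refine ⟨k⁻¹ * n * k, ?_, fun h => hn.2 ?_, fun u hu => ?_⟩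
  · calc k⁻¹ * n * k * (k⁻¹ * n * k) = k⁻¹ * (n * n) * k := by group
      _ = 1 := by rw [← pow_two, hn.1]; group
  · calc n = k * (k⁻¹ * n * k) * k⁻¹ := by group
      _ = 1 := by rw [h]; group
  · have h1 : k * u * k⁻¹ ∈ cT z' := hk ▸ mem_cT_conj hu
    have h2 : n * (k * u * k⁻¹) * n⁻¹ ∈ cT (k * z * k⁻¹) :=
      hk.symm ▸ (Subgroup.mem_normalizer_iff.1 hnN _).1 h1
    have h3 := mem_cT_conj (k := k⁻¹) h2
    rwa [show k⁻¹ * (n * (k * u * k⁻¹) * n⁻¹) * k⁻¹⁻¹ = k⁻¹ * n * k * u * (k⁻¹ * n * k)⁻¹ by group,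
      show k⁻¹ * (k * z * k⁻¹) * k⁻¹⁻¹ = z by group] at h3

theorem exists_inverting (hS : SzField F m) {g : Cfsg.Sz F m} (hg : ¬ IsUnip hS g) :
    ∃ s : Cfsg.Sz F m, s * s = 1 ∧ s * g * s = g⁻¹ := by
  have hg1 : g ≠ 1 := fun h => hg ⟨0, 0, by rw [h, uniEl_zero]⟩
  by_cases hf : FixesPoint g
  · obtain ⟨k, ⟨a, b, h⟩ | ⟨μ, -, h⟩⟩ := fixesPoint_cases hS hg1 hf
    · exact absurd ⟨a, b, isConj_iff.2 ⟨k, h⟩⟩ hg
    refine ⟨k⁻¹ * weylEl hS * k, ?_, ?_⟩
    · calc k⁻¹ * weylEl hS * k * (k⁻¹ * weylEl hS * k) = k⁻¹ * (weylEl hS * weylEl hS) * k := by group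
        _ = 1 := by rw [weylEl_mul_self]; group
    · calc k⁻¹ * weylEl hS * k * g * (k⁻¹ * weylEl hS * k)
          = k⁻¹ * (weylEl hS * (k * g * k⁻¹) * weylEl hS) * k := by group
        _ = k⁻¹ * (k * g * k⁻¹)⁻¹ * k := by rw [h, weylEl_conj_torSz, map_inv]
        _ = g⁻¹ := by group
  obtain ⟨p, z, hp, hzo, hle⟩ := exists_anis_of_not_fixesPoint hS hg1 hf
  have hz : IsAnisElt z := by rw [IsAnisElt, hzo]; exact hp
  have hgz : g ∈ cT z := hle (mem_cT.2 rfl)
  obtain ⟨n, hn2, hn1, hnorm⟩ := two_dvd_normalizer hS hz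
  have hninv : n⁻¹ = n := inv_eq_of_mul_eq_one_right hn2
  have hg' : n * g * n ∈ cT z := by
    have := hnorm g hgz
    rwa [hninv] at this
  refine ⟨n, hn2, eq_inv_of_mul_eq_one_right ?_⟩
  by_contra hne
  -- `g * (n g n)` is centralised by `n`, so `n` would lie in the torus
  have hv : g * (n * g * n) ∈ cT z := mul_mem hgz hg'
  have hnc : n * (g * (n * g * n)) = g * (n * g * n) * n := by
    calc n * (g * (n * g * n)) = n * g * n * g * n := by group
      _ = (n * g * n) * g * n := rfl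
      _ = g * (n * g * n) * n := by rw [hz.comm hS hg' hgz]
  have hnT : n ∈ cT z := hz.cT_eq hS hv hne ▸ mem_cT.2 hnc
  have h2 : 2 ∣ Nat.card (cT z) := by
    rw [← (orderOf_eq_prime_iff (p := 2) (x := n)).2 ⟨by rw [pow_two, hn2], hn1⟩]
    exact Subgroup.orderOf_dvd_natCard _ hnT
  have h3 := h2.trans (hz.card_dvd hS)
  have h4 : 2 ∣ Fintype.card F ^ 2 := dvd_pow hS.even_card two_ne_zero
  omega

theorem exists_canon (hS : SzField F m) {g : Cfsg.Sz F m} (hg : ¬ IsUnip hS g) :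
    ∃ b, b ≠ 0 ∧ IsConj g (canon hS b) := by
  obtain ⟨s, hs, hsg⟩ := exists_inverting hS hg
  obtain ⟨k, c, hk⟩ := exists_conj_center hS hs
  set t := k * (s * g) * k⁻¹ with ht
  have ht2 : t * t = 1 := by
    calc t * t = k * (s * g * s * g) * k⁻¹ := by rw [ht]; group
      _ = 1 := by rw [hsg]; group
  have hgt : k * g * k⁻¹ = uniEl hS 0 c * t := by
    calc k * g * k⁻¹ = k * (s * s) * g * k⁻¹ := by rw [hs, mul_one]
      _ = (k * s * k⁻¹) * (k * (s * g) * k⁻¹) := by group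
      _ = _ := by rw [hk]
  have hnU : ¬ ∃ d, t = uniEl hS 0 d := fun ⟨d, hd⟩ => hg ⟨_, _, isConj_iff.2 ⟨k, by
    rw [hgt, hd, uniEl_mul]⟩⟩
  have hfix : (t : SL4 F) • Cfsg.suzukiPointInfinity F ≠ Cfsg.suzukiPointInfinity F := fun h =>
    hnU (fix_center hS ht2 h)
  obtain ⟨l, d, hl⟩ := exists_conj_center hS ht2
  set P := ((l⁻¹ : Cfsg.Sz F m) : SL4 F) • Cfsg.suzukiPointInfinity F with hP
  have htP : (t : SL4 F) • P = P := by
    rw [hP, ← mul_smul]
    rw [show (t : SL4 F) * ((l⁻¹ : Cfsg.Sz F m) : SL4 F) = ((l⁻¹ * (l * t * l⁻¹) : Cfsg.Sz F m) : SL4 F) by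
      push_cast; group]
    rw [hl, Subgroup.coe_mul, mul_smul]
    congr 1
    exact uni_smul_infinity 0 d
  have hPmem : P ∈ Cfsg.suzukiOvoid F m := (MulAction.mem_stabilizer_set.1 (l⁻¹ : Cfsg.Sz F m).2 _).2 infinity_mem
  rcases mem_suzukiOvoid_iff.1 hPmem with e | ⟨x, y, e⟩
  · exact absurd (e ▸ htP) hfix
  set u := uniEl hS x y
  set t' := u⁻¹ * t * u with ht'
  have ht'2 : t' * t' = 1 := by
    calc t' * t' = u⁻¹ * (t * t) * u := by rw [ht']; group
      _ = 1 := by rw [ht2]; group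
  have hw2 : (weylEl hS * t' * weylEl hS) * (weylEl hS * t' * weylEl hS) = 1 := by
    calc _ = weylEl hS * t' * (weylEl hS * weylEl hS) * t' * weylEl hS := by group
      _ = weylEl hS * (t' * t') * weylEl hS := by rw [weylEl_mul_self]; group
      _ = 1 := by rw [ht'2, mul_one, weylEl_mul_self]
  obtain ⟨d', hd'⟩ := fix_center hS hw2 (by
    show ((weyl : SL4 F) * ((uni m x y)⁻¹ * (t : SL4 F) * uni m x y) * weyl) • _ = _
    rw [mul_smul, weyl_smul_infinity, mul_smul, mul_smul, mul_smul, uni_smul_zero hS, ← e, htP, e,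
      ← uni_smul_zero hS x y, inv_smul_smul, weyl_smul_zero])
  have hu : u⁻¹ * uniEl hS 0 c * u = uniEl hS 0 c := by
    rw [mul_assoc, inv_mul_eq_iff_eq_mul, uniEl_mul, uniEl_mul, uniEl_eq_iff]
    simp
    ring
  have hg2 : IsConj g (weylEl hS * uniEl hS 0 c * weylEl hS * uniEl hS 0 d') := by
    refine isConj_iff.2 ⟨weylEl hS * u⁻¹ * k, ?_⟩
    calc weylEl hS * u⁻¹ * k * g * (weylEl hS * u⁻¹ * k)⁻¹
        = weylEl hS * u⁻¹ * (k * g * k⁻¹) * u * (weylEl hS)⁻¹ := by group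
      _ = weylEl hS * (u⁻¹ * uniEl hS 0 c * u) * (u⁻¹ * t * u) * weylEl hS := by
          rw [hgt, weylEl_inv]; group
      _ = weylEl hS * uniEl hS 0 c * (weylEl hS * weylEl hS) * t' * weylEl hS := by
          rw [hu, weylEl_mul_self, mul_one]
      _ = weylEl hS * uniEl hS 0 c * weylEl hS * (weylEl hS * t' * weylEl hS) := by group
      _ = _ := by rw [hd']
  have hc : c ≠ 0 := by
    rintro rfl
    refine hg ⟨0, d', ?_⟩
    rw [uniEl_zero, mul_one, weylEl_mul_self, one_mul] at hg2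
    exact hg2
  have hd0 : d' ≠ 0 := by
    rintro rfl
    refine hg ⟨0, c, hg2.trans ?_⟩
    rw [uniEl_zero, mul_one]
    exact isConj_iff.2 ⟨weylEl hS, by
      rw [weylEl_inv, show weylEl hS * (weylEl hS * uniEl hS 0 c * weylEl hS) * weylEl hS =
        (weylEl hS * weylEl hS) * uniEl hS 0 c * (weylEl hS * weylEl hS) by group, weylEl_mul_self, one_mul, mul_one]⟩
  obtain ⟨ν, hν⟩ := self_mul_θ_surjective hS c
  simp only at hν
  have hν0 : ν ≠ 0 := by rintro rfl; simp [eq_comm] at hν; exact hc hν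
  set H := torSz hS (Units.mk0 ν hν0)
  refine ⟨ν * θ m ν * d', mul_ne_zero (hν ▸ hc) hd0, hg2.trans (isConj_iff.2 ⟨H, ?_⟩)⟩
  have hHW : H * weylEl hS = weylEl hS * H⁻¹ := by
    rw [← map_inv, ← weylEl_conj_torSz, ← mul_assoc, ← mul_assoc, weylEl_mul_self, one_mul]
  have hWH : weylEl hS * H⁻¹ = H * weylEl hS := hHW.symm
  have hc1 : H⁻¹ * uniEl hS 0 c * H = uniEl hS 0 1 := by
    have h := torSz_conj_uniEl hS (Units.mk0 ν hν0) 0 1
    rw [mul_zero, mul_one, Units.val_mk0, hν] at h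
    rw [← h]
    simp only [H]
    group
  calc H * (weylEl hS * uniEl hS 0 c * weylEl hS * uniEl hS 0 d') * H⁻¹
      = ((H * weylEl hS) * uniEl hS 0 c * (weylEl hS * H⁻¹)) * (H * uniEl hS 0 d' * H⁻¹) := by group
    _ = ((weylEl hS * H⁻¹) * uniEl hS 0 c * (H * weylEl hS)) * (H * uniEl hS 0 d' * H⁻¹) := by
        rw [hHW]
    _ = weylEl hS * (H⁻¹ * uniEl hS 0 c * H) * weylEl hS * (H * uniEl hS 0 d' * H⁻¹) := by group
    _ = _ := by
        rw [hc1, torSz_conj_uniEl, mul_zero, Units.val_mk0, canon]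

theorem not_isUnip_of_T_ne (hS : SzField F m) {g : Cfsg.Sz F m} (h : T g ≠ 0) : ¬ IsUnip hS g :=
  fun ⟨a, b, hc⟩ => h (by rw [T_congr hc, T_uni])

/-- The trace determines the class. -/
theorem isConj_canon (hS : SzField F m) {g : Cfsg.Sz F m} {b : F} (hb : b ≠ 0) (h : T g = θ m b) :
    IsConj g (canon hS b) := by
  have h0 : T g ≠ 0 := fun e => hb (θ_eq_zero.1 (h.symm.trans e))
  obtain ⟨d, -, hd⟩ := exists_canon hS (not_isUnip_of_T_ne hS h0)
  rwa [θ_injective hS (h.symm.trans ((T_congr hd).trans (T_canon hS d)))]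

theorem isConj_of_T (hS : SzField F m) {g h : Cfsg.Sz F m} (hg : T g ≠ 0) (e : T g = T h) : IsConj g h := by
  obtain ⟨b, hb, hc⟩ := exists_canon hS (not_isUnip_of_T_ne hS hg)
  exact hc.trans (isConj_canon hS hb (e.symm.trans ((T_congr hc).trans (T_canon hS b)))).symm

theorem isUnip_of_T_eq (hS : SzField F m) {g : Cfsg.Sz F m} (hg : T g = 0) : IsUnip hS g := by
  by_contra h
  obtain ⟨b, hb, hc⟩ := exists_canon hS h
  exact hb (θ_eq_zero.1 ((T_canon hS b).symm.trans ((T_congr hc).symm.trans hg)))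

/-- Non-central unipotent elements are classified by a parity. -/
theorem isConj_unipotent (hS : SzField F m) {a b e : F} (ha : a ≠ 0)
    (h : e + b / (a * θ m a) ∈ evenSub hS) : IsConj (uniEl hS a b) (uniEl hS 1 e) := by
  have := hS.charP
  have hθ : θ m a ≠ 0 := fun h0 => ha (θ_eq_zero.1 h0)
  obtain ⟨c, hc⟩ := h
  have hc' : θ m c + c = e + b / (a * θ m a) := hc
  have h1 : IsConj (uniEl hS a b) (uniEl hS 1 (b / (a * θ m a))) := by
    refine isConj_iff.2 ⟨torSz hS (Units.mk0 a⁻¹ (inv_ne_zero ha)), ?_⟩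
    rw [torSz_conj_uniEl, uniEl_eq_iff]
    refine ⟨by simp [ha], ?_⟩
    rw [Units.val_mk0, θ_inv]
    field_simp
  refine h1.trans (isConj_iff.2 ⟨uniEl hS c 0, ?_⟩)
  rw [mul_inv_eq_iff_eq_mul, uniEl_mul, uniEl_mul, uniEl_eq_iff]
  refine ⟨add_comm _ _, ?_⟩
  rw [θ_one]
  linear_combination hc' + (b / (a * θ m a) - c) * hS.two_eq_zero

theorem isConj_involution (hS : SzField F m) {b : F} (hb : b ≠ 0) :
    IsConj (uniEl hS 0 b) (uniEl hS 0 1) := by
  obtain ⟨ν, hν⟩ := self_mul_θ_surjective hS b⁻¹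
  simp only at hν
  have hν0 : ν ≠ 0 := by rintro rfl; simp [eq_comm, hb] at hν
  refine isConj_iff.2 ⟨torSz hS (Units.mk0 ν hν0), ?_⟩
  rw [torSz_conj_uniEl, mul_zero, Units.val_mk0, hν, inv_mul_cancel₀ hb]

end CfsgLib.SuzukiCover
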